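import Groth.Agent.L19.OmegaSh.SqZero
import Groth.Agent.L16.QCohSections
import Groth.Agent.L18.AmpleGG
import Groth.Prelude.Def_RelSpec
import Mathlib.Topology.Sheaves.CommRingCat

/-!
# The trivial square-zero extension of the structure sheaf by a quasi-coherent module, as an algebra
-/

set_option autoImplicit false
set_option linter.style.haveILetI false
set_option backward.isDefEq.respectTransparency.types false
set_option backward.isDefEq.respectTransparency false

universe u

open CategoryTheory CategoryTheory.Limits AlgebraicGeometry TopologicalSpace Opposite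

noncomputable section

namespace Groth.L19.SplitExt

open Groth.L18.Frame (rs ro rs_rs ro_ro rs_smul rs_self ro_self)
open Groth.L19.OmegaSh

variable {X : Scheme.{u}} (F : X.Modules)

theorem resL_self {U : X.Opens} (h : U ≤ U) (x : L F U) : resL F h x = x := by
  refine OmegaSh.ext F ?_ ?_
  · rw [fst_resL, ro_self]
  · rw [snd_resL, rs_self]

theorem resL_resL {U V W : X.Opens} (h : V ≤ U) (h' : W ≤ V) (x : L F U) :
    resL F h' (resL F h x) = resL F (h'.trans h) x := by
  refine OmegaSh.ext F ?_ ?_
  · simp only [fst_resL, ro_ro]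
  · simp only [snd_resL, rs_rs]

/-- The presheaf `U ↦ Γ(X, U) ⋉ Γ(F, U)`. -/
def pre : TopCat.Presheaf CommRingCat.{u} X.carrier where
  obj U := L F U.unop
  map i := resL F i.unop.le
  map_id U := by
    ext x
    exact resL_self F _ x
  map_comp i j := by
    ext x
    exact (resL_resL F _ _ x).symm

theorem pre_map_apply {U V : X.Opens} (h : V ≤ U) (x : L F U) :
    (pre F).map (homOfLE h).op x = resL F h x := rfl

theorem isSheaf_pre : (pre F).IsSheaf := by
  rw [TopCat.Presheaf.isSheaf_iff_isSheaf_comp (forget CommRingCat),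
    TopCat.Presheaf.isSheaf_iff_isSheafUniqueGluing_types]
  intro ι U sf hsf
  let G : TopCat.Sheaf Ab X.toTopCat := ⟨F.presheaf, F.isSheaf⟩
  have hc : ∀ i j, resL F (inf_le_left : U i ⊓ U j ≤ U i) (sf i) = resL F inf_le_right (sf j) :=
    fun i j => hsf i j
  have h1 : TopCat.Presheaf.IsCompatible X.presheaf U fun i => fst' F (sf i) := by
    intro i j
    have h := congrArg (fst' F) (hc i j)
    simp only [fst_resL] at h
    exact h
  have h2 : TopCat.Presheaf.IsCompatible G.obj U fun i => snd' F (sf i) := by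
    intro i j
    have h := congrArg (snd' F) (hc i j)
    simp only [snd_resL] at h
    exact h
  obtain ⟨a, ha, hau⟩ := X.sheaf.existsUnique_gluing U _ h1
  obtain ⟨m, hm, hmu⟩ := G.existsUnique_gluing U _ h2
  refine ⟨mk F _ a m, fun i => ?_, fun y hy => ?_⟩
  · show resL F (le_iSup U i) (mk F _ a m) = sf i
    refine OmegaSh.ext F ?_ ?_
    · rw [fst_resL, fst_mk]; exact ha i
    · rw [snd_resL, snd_mk]; exact hm i
  · have hy' : ∀ i, resL F (le_iSup U i) y = sf i := hy
    refine OmegaSh.ext F ?_ ?_
    · rw [fst_mk]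
      refine hau _ fun i => ?_
      have h := congrArg (fst' F) (hy' i)
      rwa [fst_resL] at h
    · rw [snd_mk]
      refine hmu _ fun i => ?_
      have h := congrArg (snd' F) (hy' i)
      rwa [snd_resL] at h

theorem inlL_apply (U : X.Opens) (a : Γ(X, U)) : inlL F U a = mk F U a 0 := rfl

/-- The structure map `a ↦ (a, 0)`. -/
def str : X.presheaf ⟶ pre F where
  app U := inlL F U.unop
  naturality U V i := by
    ext a
    show inlL F V.unop (X.presheaf.map i a) = resL F i.unop.le (inlL F U.unop a)
    refine OmegaSh.ext F ?_ ?_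
    · rw [fst_resL, inlL_apply, inlL_apply, fst_mk, fst_mk]; rfl
    · rw [snd_resL, inlL_apply, inlL_apply, snd_mk, snd_mk]
      exact (map_zero (F.presheaf.map (homOfLE i.unop.le).op).hom).symm

variable [Coh.IsQCoh F]

theorem ro_pow {U V : X.Opens} (h : V ≤ U) (a : Γ(X, U)) (n : ℕ) : ro h (a ^ n) = ro h a ^ n :=
  map_pow (X.presheaf.map (homOfLE h).op).hom a n

theorem isQC_pre : RelSpec.IsQC (pre F) (str F) := by
  haveI : Coh.IsQCoh (Coh.structureModule X) := Groth.L21.Extend.isQCoh_of_isInvertible
    (Groth.L18.Ample.isInvertible_structureModule X)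
  intro U hU r
  let h : X.basicOpen r ≤ U := X.basicOpen_le r
  let res : L F U →+* L F (X.basicOpen r) := (resL F h).hom
  letI : Algebra ((pre F).obj (op U)) ((pre F).obj (op (X.basicOpen r))) := res.toAlgebra
  haveI := hU.isLocalization_basicOpen r
  have hr : IsUnit (ro h r) :=
    IsLocalization.Away.algebraMap_isUnit (S := Γ(X, X.basicOpen r)) r
  have hres : res (inlL F U r) = inlL F (X.basicOpen r) (ro h r) :=
    (ConcreteCategory.congr_hom ((str F).naturality (homOfLE h).op) r).symm
  have hu : IsUnit (res (inlL F U r)) := by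
    rw [hres]; exact hr.map _
  refine IsLocalization.Away.mk _ hu (fun z => ?_) (fun x y hxy => ?_)
  · obtain ⟨n₁, t, ht⟩ := Groth.L16.QCohSect.exists_pow_smul_eq_res (M := Coh.structureModule X) hU r (fst' F z)
    obtain ⟨n₂, v, hv⟩ := Groth.L16.QCohSect.exists_pow_smul_eq_res (M := F) hU r (snd' F z)
    let t' : Γ(X, U) := t
    let z' : L F (X.basicOpen r) := z
    have ht' : ro h t' = ro h (r ^ n₁) * fst' F z' := ht
    refine ⟨n₁ + n₂, OmegaSh.mk F U (r ^ n₂ * t') (r ^ n₁ • v), ?_⟩
    show z' * res (inlL F U r) ^ (n₁ + n₂) = resL F h (OmegaSh.mk F U (r ^ n₂ * t') (r ^ n₁ • v))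
    rw [hres, ← map_pow, inlL_apply]
    refine OmegaSh.ext F ?_ ?_
    · rw [fst_mul, fst_mk, fst_resL, fst_mk, Groth.L18.Frame.ro_mul, ht', ro_pow, ro_pow, pow_add]
      ring
    · rw [snd_mul, fst_mk, snd_mk, snd_resL, snd_mk, rs_smul, hv, smul_zero, zero_add, smul_smul,
        ro_pow, ro_pow, pow_add]
  · let x' : L F U := x
    let y' : L F U := y
    have hxy' : resL F h x' = resL F h y' := hxy
    have e1 : ro h (fst' F x' - fst' F y') = 0 := by
      refine (map_sub (X.presheaf.map (homOfLE h).op).hom _ _).trans (sub_eq_zero.mpr ?_)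
      have := congrArg (fst' F) hxy'
      simp only [fst_resL] at this
      exact this
    have e2 : rs F h (snd' F x' - snd' F y') = 0 := by
      refine (map_sub (F.presheaf.map (homOfLE h).op).hom _ _).trans (sub_eq_zero.mpr ?_)
      have := congrArg (snd' F) hxy'
      simp only [snd_resL] at this
      exact this
    obtain ⟨n₁, hn₁⟩ := Groth.L16.QCohSect.exists_pow_smul_eq_zero (M := Coh.structureModule X) hU r _ e1
    obtain ⟨n₂, hn₂⟩ := Groth.L16.QCohSect.exists_pow_smul_eq_zero (M := F) hU r _ e2
    have hn₁' : r ^ n₁ * (fst' F x' - fst' F y') = 0 := hn₁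
    refine ⟨n₁ + n₂, ?_⟩
    show inlL F U r ^ (n₁ + n₂) * x' = inlL F U r ^ (n₁ + n₂) * y'
    rw [← map_pow, inlL_apply]
    refine OmegaSh.ext F ?_ ?_
    · rw [fst_mul, fst_mul, fst_mk, ← sub_eq_zero, ← mul_sub, pow_add, mul_right_comm, hn₁', zero_mul]
    · rw [snd_mul, snd_mul, fst_mk, snd_mk, smul_zero, smul_zero, add_zero, add_zero, ← sub_eq_zero,
        ← smul_sub, pow_add, mul_smul, hn₂, smul_zero]

/-- `O_X ⋉ F` as a quasi-coherent algebra. -/
def alg : RelSpec.QCAlg X where
  presheaf := pre F
  isSheaf := isSheaf_pre F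
  str := str F
  isQC := isQC_pre F

/-- The projection to the structure sheaf. -/
def pr : alg F ⟶ RelSpec.QCAlg.unit X where
  hom :=
    { app := fun U => prL F U.unop
      naturality := fun U V i => resL_prL F i.unop.le }
  comm := by
    ext U a
    exact fst_mk F a 0

end Groth.L19.SplitExt
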