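import Groth.Agent.L19.SplitExt.Alg
import Groth.Agent.L18.RelSpecAlg
import Groth.Agent.L18.RelCone
import Groth.Agent.L18.IdealModule
import Groth.Agent.L17.ClosedPush
import Groth.Agent.L20.ModStalk
import Mathlib.AlgebraicGeometry.Morphisms.FiniteType

/-!
# The split thickening `Spec(O_X ⋉ F)`: retraction, closed immersion, ideal
-/

set_option autoImplicit false
set_option linter.style.haveILetI false
set_option backward.isDefEq.respectTransparency.types false
set_option backward.isDefEq.respectTransparency false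

universe u

open CategoryTheory CategoryTheory.Limits AlgebraicGeometry TopologicalSpace Opposite

noncomputable section

namespace Groth.L19.SplitExt

open Groth.L18.Frame (rs ro rs_rs ro_ro rs_smul rs_self ro_self ro_mul)
open Groth.L19.OmegaSh

variable {X : Scheme.{u}} (F : X.Modules) [Coh.IsQCoh F]

/-- The split thickening. -/
def spec : Scheme.{u} := (alg F).spec

/-- The retraction. -/
def ret : spec F ⟶ X := (alg F).π

instance isAffineHom_ret : IsAffineHom (ret F) := inferInstanceAs (IsAffineHom (alg F).π)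

/-- The section. -/
def sec : X ⟶ spec F :=
  haveI := Groth.L18.Cone.isIso_unit_π (S := X)
  inv (RelSpec.QCAlg.unit X).π ≫ RelSpec.QCAlg.specMap (pr F)

theorem sec_ret : sec F ≫ ret F = 𝟙 X := by
  haveI := Groth.L18.Cone.isIso_unit_π (S := X)
  show (inv (RelSpec.QCAlg.unit X).π ≫ _) ≫ (alg F).π = _
  rw [Category.assoc, RelSpec.QCAlg.specMap_π, IsIso.inv_hom_id]

theorem sec_chart {U : X.Opens} (hU : IsAffineOpen U) :
    Spec.map (prL F U) ≫ (alg F).ι U hU = hU.fromSpec ≫ sec F := by
  haveI := Groth.L18.Cone.isIso_unit_π (S := X)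
  have h : hU.fromSpec ≫ inv (RelSpec.QCAlg.unit X).π = (RelSpec.QCAlg.unit X).ι U hU :=
    (IsIso.comp_inv_eq _).mpr (Groth.L18.Cone.unit_ι_π U hU).symm
  show _ = hU.fromSpec ≫ inv (RelSpec.QCAlg.unit X).π ≫ RelSpec.QCAlg.specMap (pr F)
  rw [← Category.assoc hU.fromSpec, h, RelSpec.QCAlg.ι_specMap]
  rfl

instance isClosedImmersion_sec : IsClosedImmersion (sec F) := by
  haveI : IsClosedImmersion (sec F ≫ ret F) := by rw [sec_ret]; infer_instance
  exact IsClosedImmersion.of_comp (sec F) (ret F)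

theorem sec_ret_base (x : spec F) : (sec F).base ((ret F).base x) = x := by
  obtain ⟨⟨U, hU⟩, hx⟩ := Opens.mem_iSup.mp
    ((iSup_affineOpens_eq_top X).ge (trivial : (ret F).base x ∈ (⊤ : X.Opens)))
  obtain ⟨z, hz⟩ := Groth.L18.RSGlue.exists_ι_eq (alg F) U hU x hx
  obtain ⟨w, hw⟩ := (surjective_prL F U).surj z
  have hxw : x = (sec F).base (hU.fromSpec.base w) := by
    rw [← Scheme.Hom.comp_apply, ← sec_chart F hU, Scheme.Hom.comp_apply, hw]
    exact hz.symm
  rw [hxw, ← Scheme.Hom.comp_apply (sec F) (ret F), sec_ret]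
  rfl

theorem ret_preimage (V : (spec F).Opens) : ret F ⁻¹ᵁ (sec F ⁻¹ᵁ V) = V := by
  ext x
  show (sec F).base ((ret F).base x) ∈ V ↔ x ∈ V
  rw [sec_ret_base]

theorem le_sec_preimage (W : X.Opens) : W ≤ sec F ⁻¹ᵁ (ret F ⁻¹ᵁ W) := by
  rw [← Scheme.Hom.comp_preimage, sec_ret]
  exact le_rfl

/-- The functions over `ret⁻¹ W`. -/
def gam (W : X.Opens) : Γ(spec F, ret F ⁻¹ᵁ W) ⟶ L F W := (alg F).gammaMap.app (op W)

instance isIso_gam (W : X.Opens) : IsIso (gam F W) := by
  haveI := Groth.L18.RelSpecAlg.isIso_gammaMap (alg F)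
  exact inferInstanceAs (IsIso ((alg F).gammaMap.app (op W)))

theorem sec_gam_affine {U : X.Opens} (hU : IsAffineOpen U) :
    gam F U ≫ prL F U = (sec F).appLE (ret F ⁻¹ᵁ U) U (le_sec_preimage F U) := by
  refine Eq.trans ?_ (τ_fst F hU ((alg F).ι U hU) (sec F) (sec_chart F hU) _
    ((alg F).top_le_preimage U hU) (le_sec_preimage F U))
  show (alg F).gammaMap.app (op U) ≫ _ = _
  rw [(alg F).gammaMap_app U hU]
  rfl

/-- Pullback of functions along the section, as a map of presheaves on `X`. -/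
def secMap : (ret F).base _* (spec F).presheaf ⟶ X.presheaf where
  app W := (sec F).appLE (ret F ⁻¹ᵁ W.unop) W.unop (le_sec_preimage F W.unop)
  naturality W W' i := by
    show (spec F).presheaf.map _ ≫ _ = _ ≫ X.presheaf.map i
    rw [Scheme.Hom.map_appLE, Scheme.Hom.appLE_map]

theorem secMap_eq : (alg F).gammaMap ≫ (pr F).hom = secMap F := by
  apply (Functor.IsCoverDense.restrictHomEquivHom (G := Scheme.AffineZariskiSite.toOpensFunctor X)
    (K := Opens.grothendieckTopology X) (ℱ := (alg F).π.base _* (alg F).spec.presheaf)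
    (ℱ' := (X.sheaf : TopCat.Sheaf CommRingCat.{u} X.carrier))).symm.injective
  ext U : 2
  exact sec_gam_affine F U.unop.2

theorem sec_gam (W : X.Opens) :
    gam F W ≫ prL F W = (sec F).appLE (ret F ⁻¹ᵁ W) W (le_sec_preimage F W) :=
  NatTrans.congr_app (secMap_eq F) (op W)

theorem gam_nat {W W' : X.Opens} (h : W' ≤ W) :
    (spec F).presheaf.map (homOfLE ((ret F).preimage_mono h)).op ≫ gam F W' = gam F W ≫ resL F h :=
  (alg F).gammaMap.naturality (homOfLE h).op

/-- `Γ(spec F, V) ≅ Γ(X, sec⁻¹ V) ⋉ Γ(F, sec⁻¹ V)`. -/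
def toL (V : (spec F).Opens) : Γ(spec F, V) ⟶ L F (sec F ⁻¹ᵁ V) :=
  (spec F).presheaf.map (homOfLE (ret_preimage F V).le).op ≫ gam F (sec F ⁻¹ᵁ V)

instance isIso_toL (V : (spec F).Opens) : IsIso (toL F V) := by
  haveI : IsIso ((spec F).presheaf.map (homOfLE (ret_preimage F V).le).op) := by
    haveI : IsIso (homOfLE (ret_preimage F V).le) := ⟨homOfLE (ret_preimage F V).ge, rfl, rfl⟩
    infer_instance
  unfold toL
  infer_instance

theorem fst_toL (V : (spec F).Opens) (a : Γ(spec F, V)) : fst' F (toL F V a) = (sec F).app V a := by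
  have h : toL F V ≫ prL F (sec F ⁻¹ᵁ V) = (sec F).app V := by
    rw [toL, Category.assoc, sec_gam, Scheme.Hom.map_appLE, ← Scheme.Hom.app_eq_appLE]
  exact congr($h a)

theorem toL_nat {V V' : (spec F).Opens} (h : V' ≤ V) (a : Γ(spec F, V)) :
    toL F V' (ro h a) = resL F ((sec F).preimage_mono h) (toL F V a) := by
  have e : (spec F).presheaf.map (homOfLE h).op ≫ toL F V' =
      toL F V ≫ resL F ((sec F).preimage_mono h) := by
    rw [toL, toL, Category.assoc, ← gam_nat, ← Functor.map_comp_assoc, ← Functor.map_comp_assoc]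
    rfl
  exact congr($e a)

theorem toL_injective (V : (spec F).Opens) : Function.Injective (toL F V) :=
  (ConcreteCategory.bijective_of_isIso (toL F V)).1

/-- `m ↦ (0, m)`. -/
def jSec (V : (spec F).Opens) (m : Γ(F, sec F ⁻¹ᵁ V)) : Γ(spec F, V) :=
  inv (toL F V) (OmegaSh.mk F _ 0 m)

theorem toL_jSec (V : (spec F).Opens) (m : Γ(F, sec F ⁻¹ᵁ V)) :
    toL F V (jSec F V m) = OmegaSh.mk F _ 0 m :=
  congr($(IsIso.inv_hom_id (toL F V)) (OmegaSh.mk F _ 0 m))

/-- `F` on `spec F` as a submodule of the structure sheaf. -/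
def jHom : (Scheme.Modules.pushforward (sec F)).obj F ⟶ Coh.structureModule (spec F) :=
  ⟨PresheafOfModules.homMk
    { app := fun V => AddCommGrpCat.ofHom (AddMonoidHom.mk' (fun m => jSec F V.unop m) fun m m' => by
        show jSec F V.unop (m + m') = jSec F V.unop m + jSec F V.unop m'
        apply toL_injective F
        rw [map_add, toL_jSec, toL_jSec, toL_jSec]
        refine OmegaSh.ext F ?_ ?_ <;> simp)
      naturality := fun V V' i => by
        ext m
        show jSec F V'.unop (rs F ((sec F).preimage_mono i.unop.le) m) = ro i.unop.le (jSec F V.unop m)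
        apply toL_injective F
        rw [toL_nat, toL_jSec, toL_jSec]
        refine OmegaSh.ext F ?_ ?_
        · rw [fst_resL, fst_mk, fst_mk]; exact (map_zero (X.presheaf.map (homOfLE ((sec F).preimage_mono i.unop.le)).op).hom).symm
        · rw [snd_resL, snd_mk, snd_mk] }
    (fun V a m => by
      show jSec F V.unop ((sec F).app V.unop a • (show Γ(F, sec F ⁻¹ᵁ V.unop) from m)) = (show Γ(spec F, V.unop) from a) * jSec F V.unop m
      apply toL_injective F
      rw [map_mul, toL_jSec, toL_jSec]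
      refine OmegaSh.ext F ?_ ?_
      · rw [fst_mul, fst_mk, fst_mk, mul_zero]
      · rw [snd_mul, fst_mk, snd_mk, snd_mk, zero_smul, add_zero, fst_toL])⟩

theorem jHom_apply (V : (spec F).Opens) (m : Γ(F, sec F ⁻¹ᵁ V)) :
    (show Γ(spec F, V) from (jHom F).app V m) = jSec F V m := rfl

/-- The ideal of the section. -/
def ideal : (spec F).IdealSheafData := (sec F).ker

/-- The section, as an isomorphism onto its image. -/
def toSub : X ⟶ (ideal F).subscheme := (sec F).toImage

instance isIso_toSub : IsIso (toSub F) := inferInstanceAs (IsIso (sec F).toImage)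

theorem toSub_ι : toSub F ≫ (ideal F).subschemeι = sec F := (sec F).toImage_imageι

theorem subι_app_eq_zero_iff (V : (spec F).Opens) (a : Γ(spec F, V)) :
    (ideal F).subschemeι.app V a = 0 ↔ fst' F (toL F V a) = 0 := by
  rw [fst_toL]
  have h := Scheme.Hom.congr_app (toSub_ι F) V
  have h1 : (sec F).app V a = 0 ↔ (toSub F ≫ (ideal F).subschemeι).app V a = 0 := by
    rw [h]
    exact (map_eq_zero_iff _ (ConcreteCategory.bijective_of_isIso (X.presheaf.map (eqToHom _).op)).1).symm
  rw [h1, Scheme.Hom.comp_app]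
  exact (map_eq_zero_iff _ (ConcreteCategory.bijective_of_isIso ((toSub F).app _)).1).symm

theorem jHom_toSubscheme : jHom F ≫ ClSub.toSubscheme (ideal F) = 0 := by
  ext V m
  show (ideal F).subschemeι.app V (jSec F V m) = 0
  rw [subι_app_eq_zero_iff, toL_jSec, fst_mk]

/-- `F` maps to the ideal. -/
def toIdeal : (Scheme.Modules.pushforward (sec F)).obj F ⟶ ClSub.idealMod (ideal F) :=
  kernel.lift _ (jHom F) (jHom_toSubscheme F)

theorem toIdeal_ι : toIdeal F ≫ ClSub.idealModι (ideal F) = jHom F := kernel.lift_ι _ _ _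

instance isIso_toIdeal : IsIso (toIdeal F) := by
  refine Scheme.Modules.Hom.isIso_iff_isIso_app.2 fun V => ?_
  refine (ConcreteCategory.isIso_iff_bijective _).2 ⟨fun m m' h => ?_, fun n => ?_⟩
  · have h' : jSec F V m = jSec F V m' := by
      rw [← jHom_apply, ← jHom_apply, ← toIdeal_ι]
      exact congrArg (fun t => (ClSub.idealModι (ideal F)).app V t) h
    have h2 := congrArg (fun x => snd' F (toL F V x)) h'
    simpa only [toL_jSec, snd_mk] using h2
  · obtain ⟨hinj, hex⟩ := Groth.L18.IdealModule.exact_sections (ideal F) V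
    let a : Γ(spec F, V) := (ClSub.idealModι (ideal F)).app V n
    have ha : fst' F (toL F V a) = 0 :=
      (subι_app_eq_zero_iff F V a).1 ((hex a).2 ⟨n, rfl⟩)
    refine ⟨snd' F (toL F V a), hinj ?_⟩
    refine Eq.trans (congr($(toIdeal_ι F).app V (snd' F (toL F V a)))) ?_
    show jSec F V (snd' F (toL F V a)) = a
    apply toL_injective F
    rw [toL_jSec]
    exact OmegaSh.ext F (by rw [fst_mk, ha]) (by rw [snd_mk])

theorem ideal_sq : ideal F ^ 2 = ⊥ := by
  refine Scheme.IdealSheafData.ext (funext fun V => ?_)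
  rw [Scheme.IdealSheafData.ideal_pow, Pi.pow_apply, pow_two]
  refine le_antisymm (Ideal.mul_le.2 fun a ha b hb => ?_) bot_le
  have hz : ∀ c ∈ (ideal F).ideal V, fst' F (toL F V.1 c) = 0 := fun c hc => by
    rw [← (ideal F).ker_subschemeι_app V] at hc
    exact (subι_app_eq_zero_iff F V.1 c).1 hc
  show a * b = 0
  apply toL_injective F
  rw [map_mul, map_zero]
  exact OmegaSh.ext F (by rw [fst_mul, hz a ha, zero_mul, fst_zero])
    (by rw [snd_mul, hz a ha, hz b hb, zero_smul, zero_smul, add_zero, snd_zero])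

/-- The ideal of the section restricted to `X` is `F`. -/
def idealIso : (Scheme.Modules.pullback (toSub F ≫ (ideal F).subschemeι)).obj (ClSub.idealMod (ideal F)) ≅ F :=
  (Scheme.Modules.pullbackCongr (toSub_ι F)).app _ ≪≫
    (Scheme.Modules.pullback (sec F)).mapIso (asIso (toIdeal F)).symm ≪≫
    haveI := Groth.L17.ClosedPush.isIso_counit (sec F)
    (asIso ((Scheme.Modules.pullbackPushforwardAdjunction (sec F)).counit.app F))

theorem locallyOfFiniteType_ret
    (hF : ∀ U : X.Opens, IsAffineOpen U → Module.Finite Γ(X, U) Γ(F, U)) :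
    LocallyOfFiniteType (ret F) := by
  refine IsZariskiLocalAtSource.of_openCover (P := @LocallyOfFiniteType) (alg F).glueData.cover fun U => ?_
  show LocallyOfFiniteType ((alg F).ι U.1 U.2 ≫ (alg F).π)
  rw [RelSpec.QCAlg.ι_π]
  haveI : LocallyOfFiniteType (Spec.map ((alg F).str.app (op U.1))) := by
    rw [HasRingHomProperty.Spec_iff (P := @LocallyOfFiniteType)]
    apply RingHom.Finite.finiteType
    show (inlL F U.1).hom.Finite
    letI : Algebra Γ(X, U.1) (L F U.1) := (inlL F U.1).hom.toAlgebra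
    haveI := hF U.1 U.2
    have hs : ∀ (c : Γ(X, U.1)) (x : L F U.1), c • x = OmegaSh.mk F _ c 0 * x := fun _ _ => rfl
    let f : Γ(X, U.1) × Γ(F, U.1) →ₗ[Γ(X, U.1)] L F U.1 :=
      { toFun := fun p => OmegaSh.mk F _ p.1 p.2
        map_add' := fun p q => by refine OmegaSh.ext F ?_ ?_ <;> simp
        map_smul' := fun c p => by
          rw [hs]
          refine OmegaSh.ext F ?_ ?_ <;> simp }
    exact Module.Finite.of_surjective f fun x =>
      ⟨(fst' F x, snd' F x), OmegaSh.ext F (fst_mk F _ _) (snd_mk F _ _)⟩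
  infer_instance

end Groth.L19.SplitExt
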