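import Groth.Agent.L16.QAffFactor.Basic
import Groth.Agent.L18.IdealModule
import Groth.Agent.L17.ClosedPush
import Groth.Agent.L20.ThickAffine
import Groth.Agent.L18.RelSpecGlue

/-!
# Uniqueness of split square-zero thickenings with a given conormal module
-/

set_option autoImplicit false
set_option linter.style.haveILetI false
set_option backward.isDefEq.respectTransparency.types false
set_option backward.isDefEq.respectTransparency false

universe u

open CategoryTheory CategoryTheory.Limits AlgebraicGeometry TopologicalSpace Opposite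
open AlgebraicGeometry.Scheme

noncomputable section

namespace Groth.L19.SplitExt.Unique

open Groth.L18.Frame (rs ro rs_rs ro_ro rs_smul rs_self ro_self ro_mul)

variable (D : Scheme.{u})

/-- A split square-zero thickening of `D`. -/
structure Thick where
  C : Scheme.{u}
  I : C.IdealSheafData
  sq : I ^ 2 = ⊥
  t : D ⟶ I.subscheme
  [isIso_t : IsIso t]
  r : C ⟶ D
  sec_ret : (t ≫ I.subschemeι) ≫ r = 𝟙 D

namespace Thick

variable {D} (T : Thick D)

instance : IsIso T.t := T.isIso_t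

/-- The section. -/
def i : D ⟶ T.C := T.t ≫ T.I.subschemeι

theorem i_r : T.i ≫ T.r = 𝟙 D := T.sec_ret

instance : IsClosedImmersion T.i := inferInstanceAs (IsClosedImmersion (T.t ≫ T.I.subschemeι))

theorem surjective_i : Function.Surjective T.i := by
  intro x
  have h : x ∈ Set.range T.I.subschemeι := by
    rw [Scheme.IdealSheafData.range_subschemeι]
    show x ∈ (T.I.support : Set T.C)
    rw [← Scheme.IdealSheafData.support_pow T.I 2 two_ne_zero, T.sq, Scheme.IdealSheafData.support_bot]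
    trivial
  obtain ⟨y, hy⟩ := h
  obtain ⟨z, hz⟩ := (ConcreteCategory.bijective_of_isIso T.t.base).2 y
  exact ⟨z, by rw [i, Scheme.Hom.comp_apply, hz, hy]⟩

theorem preimage_eq (V : T.C.Opens) : T.r ⁻¹ᵁ (T.i ⁻¹ᵁ V) = V := by
  ext x
  obtain ⟨y, rfl⟩ := T.surjective_i x
  show T.i (T.r (T.i y)) ∈ V ↔ T.i y ∈ V
  rw [← Scheme.Hom.comp_apply T.i T.r, T.i_r]
  rfl

theorem le_i (W : D.Opens) : W ≤ T.i ⁻¹ᵁ (T.r ⁻¹ᵁ W) := by
  rw [← Scheme.Hom.comp_preimage, T.i_r]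
  exact le_rfl

instance : IsAffineHom T.r := by
  refine ⟨fun U hU => ?_⟩
  haveI : IsAffine ((T.i ⁻¹ᵁ (T.r ⁻¹ᵁ U) : D.Opens) : Scheme.{u}) := by
    rw [← Scheme.Hom.comp_preimage, T.i_r]
    exact hU
  haveI : IsClosedImmersion (T.i ∣_ (T.r ⁻¹ᵁ U)) := IsZariskiLocalAtTarget.restrict (P := @IsClosedImmersion) inferInstance _
  refine Groth.L20.ThickAffine.isAffine_of_surjective (T.i ∣_ (T.r ⁻¹ᵁ U)) fun x => ?_
  obtain ⟨y, hy⟩ := T.surjective_i x.1
  refine ⟨⟨y, show T.i y ∈ T.r ⁻¹ᵁ U from hy ▸ x.2⟩, Subtype.ext ?_⟩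
  exact (morphismRestrict_base_coe T.i _ _).trans hy

/-- `i^#` on the preimage of `W`. -/
def i0 (W : D.Opens) : Γ(T.C, T.r ⁻¹ᵁ W) ⟶ Γ(D, W) := T.i.appLE _ W (T.le_i W)

theorem i0_r (W : D.Opens) (b : Γ(D, W)) : T.i0 W (T.r.app W b) = b := by
  have h : T.r.app W ≫ T.i0 W = 𝟙 _ := by
    rw [i0, Scheme.Hom.app_eq_appLE, Scheme.Hom.appLE_comp_appLE]
    have h2 : ∀ (g : D ⟶ D) (_ : g = 𝟙 D) (e : W ≤ g ⁻¹ᵁ W), g.appLE W W e = 𝟙 _ := by
      rintro g rfl e
      rw [Scheme.Hom.appLE, Scheme.Hom.id_app, Category.id_comp]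
      exact D.presheaf.map_id _
    exact h2 _ T.i_r _
  exact congr($h b)

theorem i0_nat {W W' : D.Opens} (h : W' ≤ W) (a : Γ(T.C, T.r ⁻¹ᵁ W)) :
    T.i0 W' (ro (T.r.preimage_mono h) a) = ro h (T.i0 W a) := by
  have e : T.C.presheaf.map (homOfLE (T.r.preimage_mono h)).op ≫ T.i0 W' =
      T.i0 W ≫ D.presheaf.map (homOfLE h).op := by
    rw [i0, i0, Scheme.Hom.map_appLE, Scheme.Hom.appLE_map]
  exact congr($e a)

theorem i0_app (V : T.C.Opens) (a : Γ(T.C, V)) :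
    T.i0 (T.i ⁻¹ᵁ V) (ro (T.preimage_eq V).le a) = T.i.app V a := by
  have e : T.C.presheaf.map (homOfLE (T.preimage_eq V).le).op ≫ T.i0 (T.i ⁻¹ᵁ V) = T.i.app V := by
    rw [i0, Scheme.Hom.map_appLE, ← Scheme.Hom.app_eq_appLE]
  exact congr($e a)

theorem app_eq_zero_iff (V : T.C.Opens) (a : Γ(T.C, V)) :
    T.i.app V a = 0 ↔ T.I.subschemeι.app V a = 0 := by
  rw [i, Scheme.Hom.comp_app]
  exact map_eq_zero_iff _ (ConcreteCategory.bijective_of_isIso (T.t.app _)).1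

theorem i0_eq_zero_iff (W : D.Opens) (a : Γ(T.C, T.r ⁻¹ᵁ W)) :
    T.i0 W a = 0 ↔ T.I.subschemeι.app (T.r ⁻¹ᵁ W) a = 0 := by
  rw [← T.app_eq_zero_iff, i0, Scheme.Hom.appLE, CommRingCat.comp_apply]
  haveI : IsIso (D.presheaf.map (homOfLE (T.le_i W)).op) := by
    have he : T.i ⁻¹ᵁ (T.r ⁻¹ᵁ W) ≤ W := by rw [← Scheme.Hom.comp_preimage, T.i_r]; exact le_rfl
    haveI : IsIso (homOfLE (T.le_i W)) := ⟨homOfLE he, rfl, rfl⟩
    infer_instance
  exact map_eq_zero_iff _ (ConcreteCategory.bijective_of_isIso (D.presheaf.map (homOfLE (T.le_i W)).op)).1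

/-- The ideal as a `D`-module. -/
def G : D.Modules := (Scheme.Modules.pushforward T.r).obj (ClSub.idealMod T.I)

/-- The inclusion of the ideal in the functions. -/
def inc (W : D.Opens) (n : Γ(T.G, W)) : Γ(T.C, T.r ⁻¹ᵁ W) :=
  (ClSub.idealModι T.I).app (T.r ⁻¹ᵁ W) n

theorem inc_add (W : D.Opens) (n n' : Γ(T.G, W)) : T.inc W (n + n') = T.inc W n + T.inc W n' :=
  map_add ((ClSub.idealModι T.I).app (T.r ⁻¹ᵁ W)).hom n n'

theorem inc_zero (W : D.Opens) : T.inc W 0 = 0 :=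
  map_zero ((ClSub.idealModι T.I).app (T.r ⁻¹ᵁ W)).hom

theorem inc_smul (W : D.Opens) (b : Γ(D, W)) (n : Γ(T.G, W)) :
    T.inc W (b • n) = T.r.app W b * T.inc W n :=
  (ClSub.idealModι T.I).app_smul (T.r.app W b) n

theorem inc_injective (W : D.Opens) : Function.Injective (T.inc W) :=
  (Groth.L18.IdealModule.exact_sections T.I _).1

theorem inc_nat {W W' : D.Opens} (h : W' ≤ W) (n : Γ(T.G, W)) :
    T.inc W' (rs T.G h n) = ro (T.r.preimage_mono h) (T.inc W n) :=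
  congr($((ClSub.idealModι T.I).mapPresheaf.naturality (homOfLE (T.r.preimage_mono h)).op) n)

theorem i0_inc (W : D.Opens) (n : Γ(T.G, W)) : T.i0 W (T.inc W n) = 0 :=
  (T.i0_eq_zero_iff W _).2 (((Groth.L18.IdealModule.exact_sections T.I _).2 _).2 ⟨n, rfl⟩)

theorem exists_inc (W : D.Opens) (a : Γ(T.C, T.r ⁻¹ᵁ W)) :
    ∃! n : Γ(T.G, W), T.r.app W (T.i0 W a) + T.inc W n = a := by
  have h : T.I.subschemeι.app (T.r ⁻¹ᵁ W) (a - T.r.app W (T.i0 W a)) = 0 := by
    rw [← T.i0_eq_zero_iff, map_sub, T.i0_r, sub_self]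
  obtain ⟨n, hn⟩ := ((Groth.L18.IdealModule.exact_sections T.I _).2 _).1 h
  let m : Γ(T.G, W) := n
  have hn' : T.inc W m = a - T.r.app W (T.i0 W a) := hn
  refine ⟨m, show T.r.app W (T.i0 W a) + T.inc W m = a by rw [hn']; ring, fun n' hn'' => T.inc_injective W ?_⟩
  rw [hn', eq_sub_iff_add_eq', hn'']

/-- The ideal component of a function. -/
def snd (W : D.Opens) (a : Γ(T.C, T.r ⁻¹ᵁ W)) : Γ(T.G, W) := (T.exists_inc W a).exists.choose

theorem snd_spec (W : D.Opens) (a : Γ(T.C, T.r ⁻¹ᵁ W)) :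
    T.r.app W (T.i0 W a) + T.inc W (T.snd W a) = a := (T.exists_inc W a).exists.choose_spec

theorem snd_unique {W : D.Opens} {a : Γ(T.C, T.r ⁻¹ᵁ W)} {b : Γ(D, W)} {n : Γ(T.G, W)}
    (h : T.r.app W b + T.inc W n = a) : T.i0 W a = b ∧ T.snd W a = n := by
  have hb : T.i0 W a = b := by rw [← h, map_add, T.i0_r, T.i0_inc, add_zero]
  exact ⟨hb, (T.exists_inc W a).unique (T.snd_spec W a) (hb.symm ▸ h)⟩

theorem inc_mul_inc (W : D.Opens) (n n' : Γ(T.G, W)) : T.inc W n * T.inc W n' = 0 := by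
  let S : TopCat.Sheaf CommRingCat T.C.toTopCat := T.C.sheaf
  refine S.eq_of_locally_eq' (fun V : {V : T.C.affineOpens // V.1 ≤ T.r ⁻¹ᵁ W} => V.1.1)
    (T.r ⁻¹ᵁ W) (fun V => homOfLE V.2) (fun x hx => ?_) _ _ fun V => ?_
  · obtain ⟨V, hV, hxV, hVW⟩ := exists_isAffineOpen_mem_and_subset hx
    exact Opens.mem_iSup.mpr ⟨⟨⟨V, hV⟩, hVW⟩, hxV⟩
  · show ro V.2 (T.inc W n * T.inc W n') = ro V.2 0
    have hm : ∀ m : Γ(T.G, W), ro V.2 (T.inc W m) ∈ T.I.ideal V.1 := fun m => by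
      rw [Groth.L18.IdealModule.mem_ideal_iff T.I V.1.2]
      exact ⟨rs (ClSub.idealMod T.I) V.2 m,
        congr($((ClSub.idealModι T.I).mapPresheaf.naturality (homOfLE V.2).op) m)⟩
    have h0 := Ideal.mul_mem_mul (hm n) (hm n')
    rw [← pow_two, ← Pi.pow_apply, ← Scheme.IdealSheafData.ideal_pow, T.sq,
      Scheme.IdealSheafData.ideal_bot, Pi.bot_apply, Ideal.mem_bot] at h0
    rw [ro_mul, h0]
    exact (map_zero (T.C.presheaf.map (homOfLE V.2).op).hom).symm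

/-- The comparison `I ⟶ i_* G`. -/
def toPushG : ClSub.idealMod T.I ⟶ (Scheme.Modules.pushforward T.i).obj T.G :=
  ⟨PresheafOfModules.homMk
    { app := fun V => AddCommGrpCat.ofHom
        ((ClSub.idealMod T.I).presheaf.map (homOfLE (T.preimage_eq V.unop).le).op).hom
      naturality := fun V V' j => by
        ext n
        show rs (ClSub.idealMod T.I) _ (rs (ClSub.idealMod T.I) j.unop.le n) =
          rs (ClSub.idealMod T.I) _ (rs (ClSub.idealMod T.I) _ n)
        rw [rs_rs, rs_rs] }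
    (fun V a n => by
      show rs (ClSub.idealMod T.I) (T.preimage_eq V.unop).le
          ((show Γ(T.C, V.unop) from a) • (show Γ(ClSub.idealMod T.I, V.unop) from n)) =
        T.r.app _ (T.i.app V.unop a) •
          rs (ClSub.idealMod T.I) (T.preimage_eq V.unop).le (show Γ(ClSub.idealMod T.I, V.unop) from n)
      rw [rs_smul]
      let W := T.i ⁻¹ᵁ V.unop
      let m : Γ(T.G, W) := rs (ClSub.idealMod T.I) (T.preimage_eq V.unop).le n
      apply T.inc_injective W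
      have h1 : ∀ (c : Γ(T.C, T.r ⁻¹ᵁ W)) (x : Γ(ClSub.idealMod T.I, T.r ⁻¹ᵁ W)),
          T.inc W (c • x : Γ(ClSub.idealMod T.I, T.r ⁻¹ᵁ W)) = c * T.inc W x :=
        fun c x => (ClSub.idealModι T.I).app_smul c x
      refine (h1 _ m).trans (Eq.trans ?_ (h1 _ m).symm)
      let a' : Γ(T.C, T.r ⁻¹ᵁ W) := ro (T.preimage_eq V.unop).le a
      show a' * T.inc W m = T.r.app W (T.i.app V.unop a) * T.inc W m
      rw [← T.i0_app]
      conv_lhs => rw [← T.snd_spec W a']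
      rw [add_mul, T.inc_mul_inc, add_zero])⟩

instance : IsIso T.toPushG := by
  refine Scheme.Modules.Hom.isIso_iff_isIso_app.2 fun V => ?_
  haveI : IsIso (homOfLE (T.preimage_eq V).le) := ⟨homOfLE (T.preimage_eq V).ge, rfl, rfl⟩
  exact inferInstanceAs (IsIso ((ClSub.idealMod T.I).presheaf.map (homOfLE (T.preimage_eq V).le).op))

/-- The conormal module is the ideal regarded as a `D`-module. -/
def conormalIso : (Scheme.Modules.pullback T.i).obj (ClSub.idealMod T.I) ≅ T.G :=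
  (Scheme.Modules.pullback T.i).mapIso (asIso T.toPushG) ≪≫
    haveI := Groth.L17.ClosedPush.isIso_counit T.i
    asIso ((Scheme.Modules.pullbackPushforwardAdjunction T.i).counit.app T.G)

variable (T' : Thick D) (θ : T.G ⟶ T'.G)

/-- The map of functions induced by a map of ideals. -/
def mapFun (W : D.Opens) (a : Γ(T.C, T.r ⁻¹ᵁ W)) : Γ(T'.C, T'.r ⁻¹ᵁ W) :=
  T'.r.app W (T.i0 W a) + T'.inc W (θ.app W (T.snd W a))

theorem mapFun_eq {W : D.Opens} {a : Γ(T.C, T.r ⁻¹ᵁ W)} {b : Γ(D, W)} {n : Γ(T.G, W)}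
    (h : T.r.app W b + T.inc W n = a) : T.mapFun T' θ W a = T'.r.app W b + T'.inc W (θ.app W n) := by
  obtain ⟨h1, h2⟩ := T.snd_unique h
  rw [mapFun, h1, h2]

theorem mapFun_r (W : D.Opens) (b : Γ(D, W)) : T.mapFun T' θ W (T.r.app W b) = T'.r.app W b := by
  rw [T.mapFun_eq T' θ (n := 0) (b := b) (by rw [T.inc_zero, add_zero]), map_zero, T'.inc_zero, add_zero]

theorem mapFun_add (W : D.Opens) (a a' : Γ(T.C, T.r ⁻¹ᵁ W)) :
    T.mapFun T' θ W (a + a') = T.mapFun T' θ W a + T.mapFun T' θ W a' := by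
  rw [T.mapFun_eq T' θ (b := T.i0 W a + T.i0 W a') (n := T.snd W a + T.snd W a'), map_add, map_add,
    T'.inc_add, mapFun, mapFun]
  · ring
  · rw [map_add, T.inc_add]
    linear_combination T.snd_spec W a + T.snd_spec W a'

theorem mapFun_mul (W : D.Opens) (a a' : Γ(T.C, T.r ⁻¹ᵁ W)) :
    T.mapFun T' θ W (a * a') = T.mapFun T' θ W a * T.mapFun T' θ W a' := by
  rw [T.mapFun_eq T' θ (b := T.i0 W a * T.i0 W a')
    (n := T.i0 W a • T.snd W a' + T.i0 W a' • T.snd W a), map_mul, map_add, θ.app_smul, θ.app_smul,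
    T'.inc_add, T'.inc_smul, T'.inc_smul, mapFun, mapFun]
  · linear_combination -(T'.inc_mul_inc W (θ.app W (T.snd W a)) (θ.app W (T.snd W a')))
  · rw [map_mul, T.inc_add, T.inc_smul, T.inc_smul]
    conv_rhs => rw [← T.snd_spec W a, ← T.snd_spec W a']
    linear_combination -(T.inc_mul_inc W (T.snd W a) (T.snd W a'))

theorem mapFun_one (W : D.Opens) : T.mapFun T' θ W 1 = 1 := by
  rw [← map_one (T.r.app W).hom, T.mapFun_r, map_one]

theorem mapFun_zero (W : D.Opens) : T.mapFun T' θ W 0 = 0 := by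
  rw [← map_zero (T.r.app W).hom, T.mapFun_r, map_zero]

theorem mapFun_nat {W W' : D.Opens} (h : W' ≤ W) (a : Γ(T.C, T.r ⁻¹ᵁ W)) :
    T.mapFun T' θ W' (ro (T.r.preimage_mono h) a) = ro (T'.r.preimage_mono h) (T.mapFun T' θ W a) := by
  have hr : ∀ (S : Thick D) (b : Γ(D, W)), ro (S.r.preimage_mono h) (S.r.app W b) = S.r.app W' (ro h b) :=
    fun S b => (congr($(S.r.naturality (homOfLE h).op) b)).symm
  have hθ : ∀ n : Γ(T.G, W), θ.app W' (rs T.G h n) = rs T'.G h (θ.app W n) :=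
    fun n => congr($(θ.mapPresheaf.naturality (homOfLE h).op) n)
  rw [T.mapFun_eq T' θ (b := ro h (T.i0 W a)) (n := rs T.G h (T.snd W a)), mapFun]
  · refine Eq.trans ?_ (map_add (T'.C.presheaf.map (homOfLE (T'.r.preimage_mono h)).op).hom _ _).symm
    rw [hθ, ← hr, T'.inc_nat]
  · rw [← hr, T.inc_nat]
    exact (map_add (T.C.presheaf.map (homOfLE (T.r.preimage_mono h)).op).hom _ _).symm.trans
      (congrArg (ro _) (T.snd_spec W a))

theorem i0_mapFun (W : D.Opens) (a : Γ(T.C, T.r ⁻¹ᵁ W)) : T'.i0 W (T.mapFun T' θ W a) = T.i0 W a :=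
  (T'.snd_unique (a := T.mapFun T' θ W a) rfl).1

theorem mapFun_comp (η : T'.G ⟶ T.G) (hη : θ ≫ η = 𝟙 _) (W : D.Opens) (a : Γ(T.C, T.r ⁻¹ᵁ W)) :
    T'.mapFun T η W (T.mapFun T' θ W a) = a := by
  rw [show T.mapFun T' θ W a = T'.r.app W (T.i0 W a) + T'.inc W (θ.app W (T.snd W a)) from rfl,
    T'.mapFun_eq T η (b := T.i0 W a) (n := θ.app W (T.snd W a)) rfl]
  have : η.app W (θ.app W (T.snd W a)) = T.snd W a := by
    have h := congr($(hη).app W (T.snd W a))
    exact h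
  rw [this, T.snd_spec]

/-- The map of algebras. -/
def algHom : RelSpec.QCAlg.directImage T.r ⟶ RelSpec.QCAlg.directImage T'.r where
  hom :=
    { app := fun W => CommRingCat.ofHom
        { toFun := T.mapFun T' θ W.unop
          map_one' := T.mapFun_one T' θ _
          map_mul' := T.mapFun_mul T' θ _
          map_zero' := T.mapFun_zero T' θ _
          map_add' := T.mapFun_add T' θ _ }
      naturality := fun W W' j => by
        ext a
        exact T.mapFun_nat T' θ j.unop.le a }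
  comm := by
    ext W b
    exact T.mapFun_r T' θ W b

theorem isIso_toHull : IsIso (Groth.L16.QAffFactor.toHull T.r) := by
  have hq : Mor2.IsQuasiAffine T.r := ⟨inferInstance, fun V hV => by
    haveI : IsAffine ((T.r ⁻¹ᵁ V : T.C.Opens) : Scheme.{u}) := hV.preimage T.r
    infer_instance⟩
  haveI := Groth.L16.QAffFactor.isOpenImmersion_toHull T.r hq
  haveI : Surjective (Groth.L16.QAffFactor.toHull T.r) := by
    refine ⟨fun x => ?_⟩
    let A := RelSpec.QCAlg.directImage T.r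
    obtain ⟨U, hU, hxU, -⟩ := exists_isAffineOpen_mem_and_subset (x := A.π x) (U := ⊤) trivial
    obtain ⟨z, hz⟩ := Groth.L18.RSGlue.exists_ι_eq A U hU x hxU
    haveI : IsIso (T.r ⁻¹ᵁ U).toSpecΓ := by
      rw [← (hU.preimage T.r).isoSpec_hom]; infer_instance
    obtain ⟨w, hw⟩ := (ConcreteCategory.bijective_of_isIso (T.r ⁻¹ᵁ U).toSpecΓ.base).2 z
    refine ⟨(T.r ⁻¹ᵁ U).ι w, ?_⟩
    rw [← Scheme.Hom.comp_apply, Groth.L16.QAffFactor.ι_toHull T.r ⟨U, hU⟩, Scheme.Hom.comp_apply, hw]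
    exact hz
  haveI : Epi (Groth.L16.QAffFactor.toHull T.r).base :=
    (TopCat.epi_iff_surjective _).2 (Surjective.surj (f := Groth.L16.QAffFactor.toHull T.r))
  exact IsOpenImmersion.isIso _

theorem fromSpec_toHull {U : D.Opens} (hU : IsAffineOpen U) :
    (hU.preimage T.r).fromSpec ≫ Groth.L16.QAffFactor.toHull T.r =
      (RelSpec.QCAlg.directImage T.r).ι U hU := by
  show ((hU.preimage T.r).isoSpec.inv ≫ (T.r ⁻¹ᵁ U).ι) ≫ _ = _
  rw [Category.assoc, Groth.L16.QAffFactor.ι_toHull T.r ⟨U, hU⟩, ← (hU.preimage T.r).isoSpec_hom]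
  exact (hU.preimage T.r).isoSpec.inv_hom_id_assoc _

/-- The morphism of thickenings. -/
def mapScheme : T'.C ⟶ T.C :=
  haveI := T.isIso_toHull
  Groth.L16.QAffFactor.toHull T'.r ≫ RelSpec.QCAlg.specMap (T.algHom T' θ) ≫
    inv (Groth.L16.QAffFactor.toHull T.r)

theorem fromSpec_mapScheme {U : D.Opens} (hU : IsAffineOpen U) :
    (hU.preimage T'.r).fromSpec ≫ T.mapScheme T' θ =
      Spec.map ((T.algHom T' θ).hom.app (op U)) ≫ (hU.preimage T.r).fromSpec := by
  haveI := T.isIso_toHull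
  rw [mapScheme, ← Category.assoc, T'.fromSpec_toHull hU, ← Category.assoc, RelSpec.QCAlg.ι_specMap,
    Category.assoc, ← T.fromSpec_toHull hU, Category.assoc, IsIso.hom_inv_id, Category.comp_id]

theorem mapScheme_r : T.mapScheme T' θ ≫ T.r = T'.r := by
  haveI := T.isIso_toHull
  rw [mapScheme, Category.assoc, Category.assoc,
    (IsIso.inv_comp_eq _).mpr (Groth.L16.QAffFactor.toHull_π T.r).symm,
    RelSpec.QCAlg.specMap_π, Groth.L16.QAffFactor.toHull_π]

theorem i_mapScheme : T'.i ≫ T.mapScheme T' θ = T.i := by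
  refine Scheme.hom_ext_of_forall _ _ fun x => ?_
  obtain ⟨U, hU, hxU, -⟩ := exists_isAffineOpen_mem_and_subset (x := x) (U := ⊤) trivial
  refine ⟨U, hxU, ?_⟩
  rw [← hU.toSpecΓ_fromSpec, Category.assoc, Category.assoc]
  congr 1
  rw [← Category.assoc, ← IsAffineOpen.SpecMap_appLE_fromSpec T'.i (hU.preimage T'.r) hU (T'.le_i U),
    Category.assoc, T.fromSpec_mapScheme T' θ hU, ← Category.assoc, ← Spec.map_comp,
    ← IsAffineOpen.SpecMap_appLE_fromSpec T.i (hU.preimage T.r) hU (T.le_i U)]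
  congr 2
  ext a
  exact T.i0_mapFun T' θ U a

theorem mapScheme_comp (η : T'.G ⟶ T.G) (hη : η ≫ θ = 𝟙 _) :
    T.mapScheme T' θ ≫ T'.mapScheme T η = 𝟙 _ := by
  refine Scheme.hom_ext_of_forall _ _ fun x => ?_
  obtain ⟨U, hU, hxU, -⟩ := exists_isAffineOpen_mem_and_subset (x := T'.r x) (U := ⊤) trivial
  refine ⟨T'.r ⁻¹ᵁ U, hxU, ?_⟩
  rw [← (hU.preimage T'.r).toSpecΓ_fromSpec, Category.assoc, Category.assoc]
  congr 1
  rw [← Category.assoc, T.fromSpec_mapScheme T' θ hU, Category.assoc, T'.fromSpec_mapScheme T η hU,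
    ← Category.assoc, ← Spec.map_comp, Category.comp_id]
  have h : (T'.algHom T η).hom.app (op U) ≫ (T.algHom T' θ).hom.app (op U) = 𝟙 _ := by
    ext a
    exact T'.mapFun_comp T η θ hη U a
  exact ((congrArg (Spec.map · ≫ _) h).trans (by rw [Spec.map_id, Category.id_comp]))

/-- Isomorphic conormal modules give isomorphic split thickenings. -/
theorem exists_iso (e : (Scheme.Modules.pullback T.i).obj (ClSub.idealMod T.I) ≅
    (Scheme.Modules.pullback T'.i).obj (ClSub.idealMod T'.I)) :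
    ∃ ψ : T.C ≅ T'.C, T.i ≫ ψ.hom = T'.i ∧ ψ.hom ≫ T'.r = T.r := by
  let f := T.conormalIso.symm ≪≫ e ≪≫ T'.conormalIso
  refine ⟨⟨T'.mapScheme T f.inv, T.mapScheme T' f.hom, T'.mapScheme_comp T f.inv f.hom f.hom_inv_id,
    T.mapScheme_comp T' f.hom f.inv f.inv_hom_id⟩, T'.i_mapScheme T f.inv, T'.mapScheme_r T f.inv⟩

end Thick

end Groth.L19.SplitExt.Unique
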